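import Groth.Agent.IndExt72.Basic
import Mathlib.CategoryTheory.Limits.Constructions.Filtered
import Mathlib.CategoryTheory.Preadditive.AdditiveFunctor

/-!
Extensions along filtered colimits of additive functors are additive and preserve coproducts.
-/

set_option autoImplicit false
set_option backward.isDefEq.respectTransparency.types false

noncomputable section

universe u w u' v' u'' v''

open CategoryTheory Limits

namespace Groth.Agent.IndExt72

section Additive

variable {C : Type u} [Category.{w} C] [Preadditive C] {P : ObjectProperty C}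
  {B : Type u'} [Category.{v'} B] [Preadditive B] {G : C ⥤ B}

/-- An extension of an additive functor is additive. -/
theorem IsExtension.additive (hG : IsExtension P G) (hP : Gen P) [(P.ι ⋙ G).Additive] :
    G.Additive := by
  refine ⟨fun {X Y f g} => hG.hom_ext fun M a => ?_⟩
  have := hP.isFiltered Y
  let o₁ : CostructuredArrow P.ι Y := CostructuredArrow.mk (Y := M) (a ≫ f)
  let o₂ : CostructuredArrow P.ι Y := CostructuredArrow.mk (Y := M) (a ≫ g)
  let N : P.FullSubcategory := (IsFiltered.max o₁ o₂).left
  let r₁ : M ⟶ N := (IsFiltered.leftToMax o₁ o₂).left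
  let r₂ : M ⟶ N := (IsFiltered.rightToMax o₁ o₂).left
  let n : N.obj ⟶ Y := (IsFiltered.max o₁ o₂).hom
  have h₁ : r₁.hom ≫ n = a ≫ f := CostructuredArrow.w (IsFiltered.leftToMax o₁ o₂)
  have h₂ : r₂.hom ≫ n = a ≫ g := CostructuredArrow.w (IsFiltered.rightToMax o₁ o₂)
  have hadd : G.map (r₁.hom + r₂.hom) = G.map r₁.hom + G.map r₂.hom :=
    (P.ι ⋙ G).map_add (f := r₁) (g := r₂)
  rw [← G.map_comp, Preadditive.comp_add, Preadditive.comp_add, ← G.map_comp, ← G.map_comp,
    ← h₁, ← h₂, ← Preadditive.add_comp, G.map_comp, G.map_comp, G.map_comp, hadd,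
    Preadditive.add_comp]

end Additive

section Coproducts

open CoproductsFromFiniteFiltered

variable {C : Type u} [Category.{v''} C] {B : Type u'} [Category.{v'} B] (G : C ⥤ B)

/-- Coproducts are preserved if finite coproducts and filtered colimits are. -/
theorem preservesColimitsOfShape_discrete_of_filtered (α : Type w) [HasFiniteCoproducts C]
    [HasFilteredColimitsOfSize.{w, w} C] [PreservesFiniteCoproducts G]
    [PreservesFilteredColimitsOfSize.{w, w} G] : PreservesColimitsOfShape (Discrete α) G := by
  classical
  refine ⟨fun {K} => preservesColimit_of_preserves_colimit_cocone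
    (liftToFinsetColimitCocone K).isColimit ?_⟩
  have hS : ∀ S : Finset (Discrete α), PreservesColimit (Discrete.functor fun x : S => K.obj x) G :=
    fun S => inferInstance
  let hW := isColimitOfPreserves G (colimit.isColimit (liftToFinsetObj K))
  have hsum : ∀ (S : Finset (Discrete α)) (s : Cocone (K ⋙ G)),
      ∃ d : G.obj ((liftToFinsetObj K).obj S) ⟶ s.pt,
        ∀ x : S, G.map (Sigma.ι (fun x : S => K.obj x) x) ≫ d = s.ι.app x.1 := fun S s => by
    refine ⟨Cofan.IsColimit.desc (isColimitOfHasCoproductOfPreservesColimit G fun x : S => K.obj x)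
      fun x => s.ι.app x.1, fun x => ?_⟩
    exact Cofan.IsColimit.fac (isColimitOfHasCoproductOfPreservesColimit G fun x : S => K.obj x) _ x
  choose d hd using hsum
  have ext : ∀ (S : Finset (Discrete α)) {b : B}
      (f g : G.obj ((liftToFinsetObj K).obj S) ⟶ b),
      (∀ x : S, G.map (Sigma.ι (fun x : S => K.obj x) x) ≫ f =
        G.map (Sigma.ι (fun x : S => K.obj x) x) ≫ g) → f = g := fun S b f g h =>
    Cofan.IsColimit.hom_ext (isColimitOfHasCoproductOfPreservesColimit G fun x : S => K.obj x) _ _ h
  let cc : ∀ s : Cocone (K ⋙ G), Cocone (liftToFinsetObj K ⋙ G) := fun s =>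
    { pt := s.pt
      ι :=
        { app := fun S => d S s
          naturality := fun S T h => by
            refine (Eq.trans ?_ (Category.comp_id _).symm)
            refine ext S _ _ fun x => ?_
            change G.map _ ≫ G.map ((liftToFinsetObj K).map h) ≫ d T s = _
            rw [hd, ← G.map_comp_assoc]
            simp only [liftToFinsetObj_map]
            erw [Sigma.ι_desc]
            exact hd T s ⟨x.1, h.down.down x.2⟩ } }
  refine
    { desc := fun s => hW.desc (cc s)
      fac := fun s j => ?_
      uniq := fun s m hm => hW.hom_ext fun S => ?_ }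
  · change G.map (Sigma.ι (fun x : ({j} : Finset (Discrete α)) => K.obj x) ⟨j, by simp⟩ ≫
      colimit.ι (liftToFinsetObj K) {j}) ≫ _ = _
    rw [G.map_comp, Category.assoc]
    exact (congrArg _ (hW.fac (cc s) {j})).trans (hd {j} s ⟨j, by simp⟩)
  · refine Eq.trans ?_ (hW.fac (cc s) S).symm
    refine ext S _ _ fun x => (?_ : _ = G.map _ ≫ d S s)
    refine Eq.trans ?_ (hd S s x).symm
    rw [← hm x.1]
    change G.map _ ≫ G.map (colimit.ι (liftToFinsetObj K) S) ≫ m = G.map _ ≫ m
    rw [← Category.assoc, ← G.map_comp]
    congr 2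
    change _ = Sigma.ι (fun y : ({x.1} : Finset (Discrete α)) => K.obj y) ⟨x.1, by simp⟩ ≫
      colimit.ι (liftToFinsetObj K) {x.1}
    have hw := colimit.w (liftToFinsetObj K)
      (homOfLE (show ({x.1} : Finset (Discrete α)) ≤ S by simp))
    rw [← hw]
    refine ((Category.assoc _ _ _).symm.trans (congrArg (· ≫ colimit.ι (liftToFinsetObj K) S) ?_)).symm
    simp only [liftToFinsetObj_map]
    erw [Sigma.ι_desc]

end Coproducts

end Groth.Agent.IndExt72
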