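import Mathlib.CategoryTheory.Presentable.Finite
import Mathlib.CategoryTheory.Functor.KanExtension.Pointwise
import Mathlib.CategoryTheory.Filtered.Final
import Mathlib.CategoryTheory.Limits.Preserves.Filtered
import Mathlib.CategoryTheory.ObjectProperty.ColimitsOfShape

/-!
Extending functors from a generating class of finitely presentable objects along filtered
colimits.
-/

set_option autoImplicit false
set_option backward.isDefEq.respectTransparency.types false

noncomputable section

universe w u u' v'

open CategoryTheory Limits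

namespace Groth.Agent.IndExt72

variable {C : Type u} [Category.{w} C]

/-- `P` consists of finitely presentable objects and every object is a small filtered colimit of
objects in `P`. -/
structure Gen (P : ObjectProperty C) : Prop where
  presentable : ∀ M : C, P M → IsFinitelyPresentable.{w} M
  exists_presentation : ∀ X : C,
    ∃ (J : Type w) (_ : SmallCategory J) (_ : IsFiltered J), Nonempty (P.ColimitOfShape J X)

variable {P : ObjectProperty C} (hP : Gen P) {B : Type u'} [Category.{v'} B]

namespace Gen

include hP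

theorem final_toCostructuredArrow {J : Type w} [SmallCategory J] [IsFiltered J] {X : C}
    (p : P.ColimitOfShape J X) : p.toCostructuredArrow.Final := by
  rw [Functor.final_iff_of_isFiltered]
  refine ⟨fun f => ?_, fun {f j} g₁ g₂ => ?_⟩
  · have : IsFinitelyPresentable.{w} (P.ι.obj f.left) := hP.presentable _ f.left.property
    obtain ⟨j, g, hg⟩ := IsFinitelyPresentable.exists_hom_of_isColimit p.isColimit f.hom
    exact ⟨j, ⟨CostructuredArrow.homMk (ObjectProperty.homMk g) hg⟩⟩
  · have := hP.presentable _ f.left.property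
    obtain ⟨k, a, b, h⟩ := IsFinitelyPresentable.exists_eq_of_isColimit p.isColimit
      g₁.left.hom g₂.left.hom ((CostructuredArrow.w g₁).trans (CostructuredArrow.w g₂).symm)
    refine ⟨IsFiltered.coeq a b, a ≫ IsFiltered.coeqHom a b, ?_⟩
    refine CostructuredArrow.hom_ext _ _ (ObjectProperty.hom_ext _ ?_)
    change g₁.left.hom ≫ p.diag.map _ = g₂.left.hom ≫ p.diag.map _
    conv_rhs => rw [IsFiltered.coeq_condition a b]
    rw [Functor.map_comp, Functor.map_comp]
    exact (Category.assoc _ _ _).symm.trans
      ((congrArg (· ≫ p.diag.map (IsFiltered.coeqHom a b)) h).trans (Category.assoc _ _ _))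

theorem isFiltered (X : C) : IsFiltered (CostructuredArrow P.ι X) := by
  obtain ⟨J, _, _, ⟨p⟩⟩ := hP.exists_presentation X
  have := hP.final_toCostructuredArrow p
  exact IsFiltered.of_final p.toCostructuredArrow

theorem hasPointwiseLeftKanExtension [HasFilteredColimitsOfSize.{w, w} B]
    (F : P.FullSubcategory ⥤ B) : P.ι.HasPointwiseLeftKanExtension F := fun X => by
  obtain ⟨J, _, _, ⟨p⟩⟩ := hP.exists_presentation X
  have := hP.final_toCostructuredArrow p
  exact Functor.Final.hasColimit_of_comp p.toCostructuredArrow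

/-- The canonical cocone of `X` is a colimit. -/
theorem nonempty_isColimit_canonical (X : C) :
    Nonempty (IsColimit
      ((Functor.LeftExtension.mk (𝟭 C) P.ι.rightUnitor.inv).coconeAt X)) := by
  obtain ⟨J, _, _, ⟨p⟩⟩ := hP.exists_presentation X
  have := hP.final_toCostructuredArrow p
  exact ⟨(Functor.Final.isColimitWhiskerEquiv p.toCostructuredArrow _).1
    (IsColimit.ofIsoColimit p.isColimit (Cocone.ext (Iso.refl _) fun j =>
      (Category.comp_id _).trans (Category.id_comp _).symm))⟩

theorem hom_ext_of_forall {X Y : C} {f g : X ⟶ Y}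
    (h : ∀ (M : P.FullSubcategory) (a : M.obj ⟶ X), a ≫ f = a ≫ g) : f = g := by
  obtain ⟨J, _, _, ⟨p⟩⟩ := hP.exists_presentation X
  exact p.isColimit.hom_ext fun j => h ⟨_, p.prop_diag_obj j⟩ _

end Gen

/-- The functor sends each canonical colimit to a colimit. -/
def IsExtension (P : ObjectProperty C) (G : C ⥤ B) : Prop :=
  ∀ X : C, Nonempty
    ((Functor.LeftExtension.mk G (𝟙 (P.ι ⋙ G))).IsPointwiseLeftKanExtensionAt X)

namespace IsExtension

variable {G : C ⥤ B}

theorem hom_ext (hG : IsExtension P G) {X : C} {b : B} {f g : G.obj X ⟶ b}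
    (h : ∀ (M : P.FullSubcategory) (a : M.obj ⟶ X), G.map a ≫ f = G.map a ≫ g) : f = g :=
  (hG X).some.hom_ext' fun M a => by
    exact (Category.id_comp _).trans ((h M a).trans (Category.id_comp _).symm)

theorem exists_desc (hG : IsExtension P G) {X : C} {b : B}
    (k : ∀ (M : P.FullSubcategory), (M.obj ⟶ X) → (G.obj M.obj ⟶ b))
    (hk : ∀ {M N : P.FullSubcategory} (φ : M ⟶ N) (a : N.obj ⟶ X),
      G.map φ.hom ≫ k N a = k M (φ.hom ≫ a)) :
    ∃ d : G.obj X ⟶ b, ∀ (M : P.FullSubcategory) (a : M.obj ⟶ X), G.map a ≫ d = k M a := by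
  let s : Cocone (CostructuredArrow.proj P.ι X ⋙ P.ι ⋙ G) :=
    { pt := b
      ι :=
        { app := fun g => k g.left g.hom
          naturality := fun g₁ g₂ φ => by
            refine ((hk φ.left g₂.hom).trans ?_).trans (Category.comp_id _).symm
            exact congrArg (k g₁.left) (CostructuredArrow.w φ) } }
  refine ⟨(hG X).some.desc s, fun M a => ?_⟩
  have := (hG X).some.fac s (CostructuredArrow.mk a)
  exact (congrArg (· ≫ (hG X).some.desc s) (Category.id_comp (G.map a)).symm).trans this

/-- An extension preserves filtered colimits. -/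
theorem preservesFilteredColimits (hG : IsExtension P G) (hP : Gen P) :
    PreservesFilteredColimitsOfSize.{w, w} G where
  preserves_filtered_colimits J _ _ := ⟨fun {D} => ⟨fun {c} hc => by
    choose ind lift fac using fun (M : P.FullSubcategory) (a : M.obj ⟶ c.pt) =>
      have := hP.presentable _ M.property
      IsFinitelyPresentable.exists_hom_of_isColimit hc a
    have indep : ∀ (s : Cocone (D ⋙ G)) (M : P.FullSubcategory) {j j' : J} (a : M.obj ⟶ D.obj j)
        (a' : M.obj ⟶ D.obj j'), a ≫ c.ι.app j = a' ≫ c.ι.app j' →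
        G.map a ≫ s.ι.app j = G.map a' ≫ s.ι.app j' := fun s M j j' a a' e => by
      have := hP.presentable _ M.property
      obtain ⟨k, x, y, h⟩ := IsFinitelyPresentable.exists_eq_of_isColimit hc a a' e
      rw [← s.w x, ← s.w y]
      simp only [Functor.comp_map, ← G.map_comp_assoc, h]
    have key : ∀ s : Cocone (D ⋙ G), ∃ d : G.obj c.pt ⟶ s.pt,
        ∀ (M : P.FullSubcategory) (a : M.obj ⟶ c.pt),
          G.map a ≫ d = G.map (lift M a) ≫ s.ι.app (ind M a) := fun s =>
      hG.exists_desc (fun M a => G.map (lift M a) ≫ s.ι.app (ind M a)) fun {M N} φ a => by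
        rw [← G.map_comp_assoc]
        exact indep s M _ _ (by rw [Category.assoc, fac, fac])
    choose d hd using key
    refine ⟨{ desc := d, fac := fun s j => ?_, uniq := fun s m hm => ?_ }⟩
    · refine hG.hom_ext fun M a => ?_
      change G.map a ≫ G.map (c.ι.app j) ≫ d s = _
      rw [← G.map_comp_assoc, hd]
      exact indep s M _ _ (fac M (a ≫ c.ι.app j))
    · refine hG.hom_ext fun M a => ?_
      have h := congrArg (G.map (lift M a) ≫ ·) (hm (ind M a))
      simp only [Functor.mapCocone_ι_app, ← G.map_comp_assoc, fac] at h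
      exact h.trans (hd s M a).symm⟩⟩

end IsExtension

theorem isExtension_of_preservesFilteredColimits (hP : Gen P) (G : C ⥤ B)
    [PreservesFilteredColimitsOfSize.{w, w} G] : IsExtension P G := fun X => by
  obtain ⟨J, _, _, ⟨p⟩⟩ := hP.exists_presentation X
  have := hP.final_toCostructuredArrow p
  exact ⟨(Functor.Final.isColimitWhiskerEquiv p.toCostructuredArrow _).1
    (IsColimit.ofIsoColimit (isColimitOfPreserves G p.isColimit)
      (Cocone.ext (Iso.refl _) fun j => (Category.comp_id _).trans (Category.id_comp _).symm))⟩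

/-- Extensions exist. -/
theorem exists_extension (hP : Gen P) [HasFilteredColimitsOfSize.{w, w} B]
    (F : P.FullSubcategory ⥤ B) :
    ∃ G : C ⥤ B, PreservesFilteredColimitsOfSize.{w, w} G ∧ Nonempty (P.ι ⋙ G ≅ F) := by
  have := hP.hasPointwiseLeftKanExtension F
  let E := Functor.LeftExtension.mk _ (P.ι.pointwiseLeftKanExtensionUnit F)
  let hE : E.IsPointwiseLeftKanExtension :=
    P.ι.pointwiseLeftKanExtensionIsPointwiseLeftKanExtension F
  have : IsIso E.hom := hE.isIso_hom
  let G : C ⥤ B := E.right
  let e : P.ι ⋙ G ≅ F := (asIso E.hom).symm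
  have hG : IsExtension P G := fun X => by
    refine ⟨(IsColimit.precomposeHomEquiv (Functor.isoWhiskerLeft (CostructuredArrow.proj P.ι X) e.symm)
      _).toFun ?_⟩
    refine IsColimit.ofIsoColimit (hE X) (Cocone.ext (Iso.refl _) fun g => ?_)
    exact (Category.comp_id _).trans (congrArg (E.hom.app g.left ≫ ·) (Category.id_comp _).symm)
  exact ⟨G, hG.preservesFilteredColimits hP, ⟨e⟩⟩

/-- A natural transformation on `P` extends uniquely. -/
theorem existsUnique_natTrans {G : C ⥤ B} (hG : IsExtension P G) (H : C ⥤ B)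
    (t : P.ι ⋙ G ⟶ P.ι ⋙ H) : ∃! T : G ⟶ H, Functor.whiskerLeft P.ι T = t := by
  have key : ∀ X : C, ∃ d : G.obj X ⟶ H.obj X,
      ∀ (M : P.FullSubcategory) (a : M.obj ⟶ X), G.map a ≫ d = t.app M ≫ H.map a := fun X =>
    hG.exists_desc (fun M a => t.app M ≫ H.map a) fun {M N} φ a => by
      rw [H.map_comp, ← Category.assoc, ← Category.assoc]
      exact congrArg (· ≫ H.map a) (t.naturality φ)
  choose d hd using key
  refine ⟨{ app := d, naturality := fun X Y f => hG.hom_ext fun M a => ?_ }, ?_, fun T hT => ?_⟩
  · rw [← G.map_comp_assoc, hd, ← Category.assoc, hd, H.map_comp, Category.assoc]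
  · ext M
    have := hd M.obj M (𝟙 _)
    rw [G.map_id, Category.id_comp] at this
    exact this.trans ((congrArg (t.app M ≫ ·) (H.map_id _)).trans (Category.comp_id _))
  · subst hT
    refine NatTrans.ext (funext fun X => hG.hom_ext fun M a => ?_)
    rw [T.naturality]
    exact (hd X M a).symm

/-- Extensions are unique. -/
theorem nonempty_iso {G H : C ⥤ B} (hG : IsExtension P G) (hH : IsExtension P H)
    (e : P.ι ⋙ G ≅ P.ι ⋙ H) : Nonempty (G ≅ H) := by
  obtain ⟨T, hT, -⟩ := existsUnique_natTrans hG H e.hom
  obtain ⟨S, hS, -⟩ := existsUnique_natTrans hH G e.inv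
  refine ⟨⟨T, S, (existsUnique_natTrans hG G (𝟙 _)).unique ?_ (Functor.whiskerLeft_id' ..),
    (existsUnique_natTrans hH H (𝟙 _)).unique ?_ (Functor.whiskerLeft_id' ..)⟩⟩
  · rw [Functor.whiskerLeft_comp, hT, hS, e.hom_inv_id]
  · rw [Functor.whiskerLeft_comp, hT, hS, e.inv_hom_id]

end Groth.Agent.IndExt72
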