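import Groth.Agent.IndExt72.Additive
import Mathlib.CategoryTheory.Comma.Final
import Mathlib.CategoryTheory.Limits.Preserves.Shapes.Kernels
import Mathlib.CategoryTheory.Preadditive.LeftExact

/-!
Extensions along filtered colimits of left or right exact functors are left or right exact.
-/

set_option autoImplicit false
set_option backward.isDefEq.respectTransparency.types false

noncomputable section

universe u w u' v'

open CategoryTheory Limits

namespace Groth.Agent.IndExt72

variable {C : Type u} [Category.{w} C] {P : ObjectProperty C}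

/-- A presentation of a morphism as a filtered colimit of morphisms in `P`. -/
structure ArrowPres (P : ObjectProperty C) {X Y : C} (f : X ⟶ Y) where
  /-- The index category. -/
  K : Type w
  [cat : SmallCategory K]
  [filtered : IsFiltered K]
  /-- The sources. -/
  Dx : K ⥤ C
  /-- The targets. -/
  Dy : K ⥤ C
  memx : ∀ k, P (Dx.obj k)
  memy : ∀ k, P (Dy.obj k)
  /-- The morphisms. -/
  η : Dx ⟶ Dy
  /-- The cocone to the source. -/
  ax : Dx ⟶ (Functor.const K).obj X
  /-- The cocone to the target. -/
  ay : Dy ⟶ (Functor.const K).obj Y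
  /-- The source is the colimit. -/
  hx : IsColimit (Cocone.mk X ax)
  /-- The target is the colimit. -/
  hy : IsColimit (Cocone.mk Y ay)
  w : ∀ k, η.app k ≫ ay.app k = ax.app k ≫ f

attribute [instance] ArrowPres.cat ArrowPres.filtered

theorem exists_arrowPres (hP : Gen P) {X Y : C} (f : X ⟶ Y) : Nonempty (ArrowPres P f) := by
  obtain ⟨I, _, _, ⟨p⟩⟩ := hP.exists_presentation X
  obtain ⟨J, _, _, ⟨q⟩⟩ := hP.exists_presentation Y
  let L : I ⥤ CostructuredArrow P.ι Y := p.toCostructuredArrow ⋙ CostructuredArrow.map f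
  let R : J ⥤ CostructuredArrow P.ι Y := q.toCostructuredArrow
  have : R.Final := hP.final_toCostructuredArrow q
  exact ⟨{
    K := Comma L R
    Dx := Comma.fst L R ⋙ p.diag
    Dy := Comma.snd L R ⋙ q.diag
    memx := fun k => p.prop_diag_obj k.left
    memy := fun k => q.prop_diag_obj k.right
    η :=
      { app := fun k => k.hom.left.hom
        naturality := fun k l φ => congrArg (fun g => g.left.hom) φ.w }
    ax := (Cocone.whisker (Comma.fst L R) p.cocone).ι
    ay := (Cocone.whisker (Comma.snd L R) q.cocone).ι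
    hx := (Functor.Final.isColimitWhiskerEquiv (Comma.fst L R) p.cocone).symm p.isColimit
    hy := (Functor.Final.isColimitWhiskerEquiv (Comma.snd L R) q.cocone).symm q.isColimit
    w := fun k => CostructuredArrow.w k.hom }⟩

section Colimit

variable {E : Type u'} [Category.{v'} E] [HasZeroMorphisms E] {K : Type w} [SmallCategory K]

/-- Filtered colimits of kernels are kernels. -/
theorem isLimit_kernelFork_colimit [HasColimitsOfShape K E]
    [PreservesLimitsOfShape WalkingParallelPair (colim : (K ⥤ E) ⥤ E)]
    {Dk Dx Dy : K ⥤ E} (κ : Dk ⟶ Dx) (η : Dx ⟶ Dy) (hw : κ ≫ η = 0)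
    (hlim : ∀ k, IsLimit (KernelFork.ofι (κ.app k)
      (show κ.app k ≫ η.app k = 0 from congr($(hw).app k))))
    {ck : Cocone Dk} {cx : Cocone Dx} {cy : Cocone Dy} (hck : IsColimit ck) (hcx : IsColimit cx)
    (hcy : IsColimit cy) (a : ck.pt ⟶ cx.pt) (f : cx.pt ⟶ cy.pt)
    (ha : ∀ k, κ.app k ≫ cx.ι.app k = ck.ι.app k ≫ a)
    (hf : ∀ k, η.app k ≫ cy.ι.app k = cx.ι.app k ≫ f) (hwf : a ≫ f = 0) :
    Nonempty (IsLimit (KernelFork.ofι a hwf)) := by
  let fork : KernelFork η := KernelFork.ofι κ hw
  have hfork : IsLimit fork := evaluationJointlyReflectsLimits _ fun k =>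
    (KernelFork.isLimitMapConeEquiv fork ((evaluation K E).obj k)).symm (hlim k)
  have : (colim : (K ⥤ E) ⥤ E).PreservesZeroMorphisms :=
    ⟨fun A B => colimit.hom_ext fun j => by simp⟩
  have h2 : IsLimit (fork.map (colim : (K ⥤ E) ⥤ E)) :=
    KernelFork.mapIsLimit fork hfork _
  let ek := (colimit.isColimit Dk).coconePointUniqueUpToIso hck
  let ex := (colimit.isColimit Dx).coconePointUniqueUpToIso hcx
  let ey := (colimit.isColimit Dy).coconePointUniqueUpToIso hcy
  have hka : colim.map κ ≫ ex.hom = ek.hom ≫ a := colimit.hom_ext fun j => by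
    simp [ex, ek, ha]
  have hkf : colim.map η ≫ ey.hom = ex.hom ≫ f := colimit.hom_ext fun j => by
    simp [ex, ey, hf]
  let e : parallelPair (colim.map η) 0 ≅ parallelPair f 0 :=
    parallelPair.ext ex ey hkf (by simp)
  refine ⟨IsLimit.ofIsoLimit ((IsLimit.postcomposeHomEquiv e (fork.map colim)).symm h2)
    (Fork.ext ek ?_)⟩
  change ek.hom ≫ a = colim.map κ ≫ ex.hom
  exact hka.symm

end Colimit

variable [Preadditive C] {B : Type u'} [Category.{v'} B] [Preadditive B] (G : C ⥤ B)
  [PreservesFilteredColimitsOfSize.{w, w} G] [G.Additive]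

/-- Preservation of cokernels passes from `P` to all objects. -/
theorem preservesCokernel (hP : Gen P) [HasCokernels C] [HasFilteredColimitsOfSize.{w, w} C]
    (hG : ∀ ⦃M N : C⦄ (h : M ⟶ N), P M → P N → PreservesColimit (parallelPair h 0) G)
    {X Y : C} (f : X ⟶ Y) : PreservesColimit (parallelPair f 0) G := by
  obtain ⟨A⟩ := exists_arrowPres hP f
  let π := cokernel.π f
  let Dq : A.K ⥤ C :=
    { obj := fun k => cokernel (A.η.app k)
      map := fun {k l} φ => cokernel.map _ _ (A.Dx.map φ) (A.Dy.map φ) (A.η.naturality φ).symm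
      map_id := fun k => by ext; simp
      map_comp := fun φ ψ => by ext; simp }
  let aq : Dq ⟶ (Functor.const A.K).obj (cokernel f) :=
    { app := fun k => cokernel.desc _ (A.ay.app k ≫ π) (by
        rw [← Category.assoc, A.w, Category.assoc, cokernel.condition, comp_zero])
      naturality := fun k l φ => by
        ext
        simp only [Dq, cokernel.π_desc_assoc, Category.assoc, cokernel.π_desc, Functor.const_obj_map]
        refine Eq.trans ?_ (congrArg (A.ay.app k ≫ ·) (Category.comp_id π)).symm
        exact (Category.assoc _ _ _).symm.trans (congrArg (· ≫ π)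
          ((A.ay.naturality φ).trans (Category.comp_id _))) }
  have hq : IsColimit (Cocone.mk _ aq) := by
    refine IsColimit.ofExistsUnique fun s => ?_
    let sy : Cocone A.Dy :=
      { pt := s.pt
        ι :=
          { app := fun k => cokernel.π (A.η.app k) ≫ s.ι.app k
            naturality := fun k l φ => by
              refine Eq.trans ?_ (Category.comp_id _).symm
              rw [← Category.assoc, ← s.w φ]
              simp [Dq] } }
    have h0 : f ≫ A.hy.desc sy = 0 := A.hx.hom_ext fun k => by
      change A.ax.app k ≫ f ≫ A.hy.desc sy = A.ax.app k ≫ 0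
      rw [← Category.assoc, ← A.w, Category.assoc, comp_zero]
      refine (congrArg (A.η.app k ≫ ·) (A.hy.fac sy k)).trans ?_
      simp [sy]
    refine ⟨cokernel.desc f _ h0, fun k => ?_, fun m hm => ?_⟩
    · apply Cofork.IsColimit.hom_ext (cokernelIsCokernel (A.η.app k))
      change cokernel.π (A.η.app k) ≫ aq.app k ≫ _ = cokernel.π (A.η.app k) ≫ _
      simp only [aq, cokernel.π_desc_assoc, Category.assoc, π, cokernel.π_desc]
      exact A.hy.fac sy k
    · ext
      rw [cokernel.π_desc]
      refine A.hy.hom_ext fun k => ?_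
      rw [A.hy.fac]
      change A.ay.app k ≫ π ≫ m = cokernel.π (A.η.app k) ≫ s.ι.app k
      rw [← hm k]
      simp [aq]
  refine preservesColimit_of_preserves_colimit_cocone (cokernelIsCokernel f)
    ((CokernelCofork.isColimitMapCoconeEquiv _ G).symm ?_)
  let hGq := isColimitOfPreserves G hq
  let hGy := isColimitOfPreserves G A.hy
  have hk : ∀ k, IsColimit ((CokernelCofork.ofπ (cokernel.π (A.η.app k))
      (cokernel.condition (A.η.app k))).map G) := fun k =>
    have := hG (A.η.app k) (A.memx k) (A.memy k)
    CokernelCofork.mapIsColimit _ (cokernelIsCokernel _) G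
  have hdesc : ∀ {Z : B} (t : G.obj Y ⟶ Z), G.map f ≫ t = 0 →
      ∃ d : G.obj (cokernel f) ⟶ Z, G.map π ≫ d = t := by
    intro Z t ht
    have h0 : ∀ k, G.map (A.η.app k) ≫ G.map (A.ay.app k) ≫ t = 0 := fun k => by
      rw [← G.map_comp_assoc, A.w, G.map_comp, Category.assoc, ht, comp_zero]
    let e : ∀ k, G.obj (cokernel (A.η.app k)) ⟶ Z := fun k =>
      (CokernelCofork.IsColimit.desc' (hk k) _ (h0 k)).1
    have he : ∀ k, G.map (cokernel.π (A.η.app k)) ≫ e k = G.map (A.ay.app k) ≫ t := fun k =>
      (CokernelCofork.IsColimit.desc' (hk k) _ (h0 k)).2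
    let sq : Cocone (Dq ⋙ G) :=
      { pt := Z
        ι :=
          { app := e
            naturality := fun k l φ => by
              refine Eq.trans ?_ (Category.comp_id _).symm
              refine Cofork.IsColimit.hom_ext (hk k) ?_
              change G.map (cokernel.π (A.η.app k)) ≫ G.map (Dq.map φ) ≫ e l =
                G.map (cokernel.π (A.η.app k)) ≫ e k
              rw [he, ← G.map_comp_assoc]
              simp only [Dq, cokernel.π_desc, G.map_comp, Category.assoc, he]
              rw [← G.map_comp_assoc]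
              exact congrArg (fun g => G.map g ≫ t)
                ((A.ay.naturality φ).trans (Category.comp_id _)) } }
    refine ⟨hGq.desc sq, hGy.hom_ext fun k => ?_⟩
    change G.map (A.ay.app k) ≫ G.map π ≫ hGq.desc sq = G.map (A.ay.app k) ≫ t
    rw [← he k, ← G.map_comp_assoc,
      show A.ay.app k ≫ π = cokernel.π (A.η.app k) ≫ aq.app k by simp [aq], G.map_comp,
      Category.assoc]
    exact congrArg _ (hGq.fac sq k)
  have hepi : Epi (G.map π) := by
    refine ⟨fun {Z} m₁ m₂ h => hGq.hom_ext fun k => Cofork.IsColimit.hom_ext (hk k) ?_⟩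
    change G.map (cokernel.π (A.η.app k)) ≫ G.map (aq.app k) ≫ m₁ =
      G.map (cokernel.π (A.η.app k)) ≫ G.map (aq.app k) ≫ m₂
    rw [← G.map_comp_assoc, ← G.map_comp_assoc,
      show cokernel.π (A.η.app k) ≫ aq.app k = A.ay.app k ≫ π by simp [aq], G.map_comp,
      Category.assoc, Category.assoc, h]
  exact CokernelCofork.IsColimit.ofπ (G.map π)
    (by rw [← G.map_comp, cokernel.condition, G.map_zero]) (fun t ht => (hdesc t ht).choose)
    (fun t ht => (hdesc t ht).choose_spec)
    (fun t ht m hm => hepi.left_cancellation _ _ (hm.trans (hdesc t ht).choose_spec.symm))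

/-- Preservation of kernels passes from `P` to all objects. -/
theorem preservesKernel (hP : Gen P) [HasKernels C] [HasKernels B]
    [HasFilteredColimitsOfSize.{w, w} C] [HasFilteredColimitsOfSize.{w, w} B]
    (hC : ∀ (J : Type w) [SmallCategory J] [IsFiltered J],
      PreservesLimitsOfShape WalkingParallelPair (colim : (J ⥤ C) ⥤ C))
    (hB : ∀ (J : Type w) [SmallCategory J] [IsFiltered J],
      PreservesLimitsOfShape WalkingParallelPair (colim : (J ⥤ B) ⥤ B))
    (hG : ∀ ⦃M N : C⦄ (h : M ⟶ N), P M → P N → PreservesLimit (parallelPair h 0) G)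
    {X Y : C} (f : X ⟶ Y) : PreservesLimit (parallelPair f 0) G := by
  obtain ⟨A⟩ := exists_arrowPres hP f
  have := hC A.K
  have := hB A.K
  let Dk : A.K ⥤ C :=
    { obj := fun k => kernel (A.η.app k)
      map := fun {k l} φ => kernel.map _ _ (A.Dx.map φ) (A.Dy.map φ) (A.η.naturality φ).symm
      map_id := fun k => by ext; simp
      map_comp := fun φ ψ => by ext; simp }
  let κ : Dk ⟶ A.Dx := { app := fun k => kernel.ι (A.η.app k) }
  have hκ : κ ≫ A.η = 0 := NatTrans.ext (funext fun k => by simp [κ])
  let ck := colimit.cocone Dk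
  let a : colimit Dk ⟶ X := colimit.desc Dk (Cocone.mk X (κ ≫ A.ax))
  have ha : ∀ k, κ.app k ≫ A.ax.app k = colimit.ι Dk k ≫ a := fun k =>
    (colimit.ι_desc (Cocone.mk X (κ ≫ A.ax)) k).symm
  have hwf : a ≫ f = 0 := colimit.hom_ext fun k => by
    rw [← Category.assoc, ← ha k, Category.assoc, ← A.w, ← Category.assoc, comp_zero]
    simp [κ]
  have h1 := (isLimit_kernelFork_colimit κ A.η hκ (fun k => kernelIsKernel _)
    (colimit.isColimit Dk) A.hx A.hy a f ha A.w hwf).some
  refine preservesLimit_of_preserves_limit_cone h1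
    ((KernelFork.isLimitMapConeEquiv _ G).symm ?_)
  have h2 : ∀ k, IsLimit (KernelFork.ofι ((Functor.whiskerRight κ G).app k)
      (show (Functor.whiskerRight κ G).app k ≫ (Functor.whiskerRight A.η G).app k = 0 by
        simp [κ, ← G.map_comp])) := fun k =>
    have := hG (A.η.app k) (A.memx k) (A.memy k)
    KernelFork.mapIsLimit _ (kernelIsKernel (A.η.app k)) G
  exact (isLimit_kernelFork_colimit (Functor.whiskerRight κ G) (Functor.whiskerRight A.η G)
    (NatTrans.ext (funext fun k => by simp [κ, ← G.map_comp])) h2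
    (isColimitOfPreserves G (colimit.isColimit Dk)) (isColimitOfPreserves G A.hx)
    (isColimitOfPreserves G A.hy) (G.map a) (G.map f)
    (fun k => ((G.map_comp _ _).symm.trans (congrArg G.map (ha k))).trans (G.map_comp _ _))
    (fun k => ((G.map_comp _ _).symm.trans (congrArg G.map (A.w k))).trans (G.map_comp _ _))
    (by rw [← G.map_comp, hwf, G.map_zero])).some

end Groth.Agent.IndExt72
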