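import Groth.Agent.IndExt72.ModExact
import Mathlib.CategoryTheory.Preadditive.Biproducts
import Mathlib.CategoryTheory.Preadditive.AdditiveFunctor

/-!
A right exact functor on finitely presented modules is an object with an action of the ring.
-/

set_option autoImplicit false
set_option backward.isDefEq.respectTransparency.types false
set_option linter.style.haveILetI false

noncomputable section

universe u v' u'

open CategoryTheory Limits

attribute [local instance] hasBinaryBiproducts_of_finite_biproducts

namespace Groth.Agent.IndExt72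

variable {A : Type u} [CommRing A]

/-- The category of finitely presented modules. -/
abbrev FP (A : Type u) [CommRing A] := (fpMod A).FullSubcategory

/-- The linear map underlying a morphism. -/
abbrev lin {M N : FP A} (u : M ⟶ N) : M.obj →ₗ[A] N.obj := u.hom.hom

/-- The morphism given by a linear map. -/
abbrev ofLin {M N : FP A} (l : M.obj →ₗ[A] N.obj) : M ⟶ N := ObjectProperty.homMk (ModuleCat.ofHom l)

/-- The standard free modules. -/
abbrev free (n : ℕ) : FP A := ⟨ModuleCat.of A (Fin n → A), inferInstanceAs (Module.FinitePresentation A (Fin n → A))⟩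

/-- The ring as a module. -/
abbrev ringObj : FP A := ⟨ModuleCat.of A A, inferInstanceAs (Module.FinitePresentation A A)⟩

/-- A chosen finite presentation. -/
structure Pres (M : FP A) where
  /-- number of generators -/
  n : ℕ
  /-- number of relations -/
  m : ℕ
  /-- generators -/
  p : (Fin n → A) →ₗ[A] M.obj
  /-- relations -/
  q : (Fin m → A) →ₗ[A] (Fin n → A)
  surj : Function.Surjective p
  range_q : LinearMap.range q = LinearMap.ker p

theorem nonempty_pres (M : FP A) : Nonempty (Pres M) := by
  haveI : Module.FinitePresentation A M.obj := M.property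
  obtain ⟨n, p, hp⟩ := Module.Finite.exists_fin' A M.obj
  obtain ⟨m, q, hq⟩ := (Submodule.fg_iff_exists_fin_generating_family).mp
    (Module.FinitePresentation.fg_ker p hp)
  exact ⟨⟨n, m, p, Fintype.linearCombination A q, hp,
    (Fintype.range_linearCombination A q).trans hq⟩⟩

/-- The chosen presentation of a module. -/
def pres (M : FP A) : Pres M := (nonempty_pres M).some

theorem Pres.p_q {M : FP A} (P : Pres M) : P.p.comp P.q = 0 :=
  LinearMap.ext fun x => P.range_q.le ⟨x, rfl⟩

theorem exists_lift_surjective {k : ℕ} {M N : Type u} [AddCommGroup M] [Module A M] [AddCommGroup N]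
    [Module A N] {p : M →ₗ[A] N} (hp : Function.Surjective p) (g : (Fin k → A) →ₗ[A] N) :
    ∃ v : (Fin k → A) →ₗ[A] M, p.comp v = g :=
  Module.projective_lifting_property p g hp

theorem Pres.exists_factor {M : FP A} (P : Pres M) {k : ℕ} (g : (Fin k → A) →ₗ[A] (Fin P.n → A))
    (hg : P.p.comp g = 0) : ∃ z : (Fin k → A) →ₗ[A] (Fin P.m → A), P.q.comp z = g := by
  obtain ⟨z, hz⟩ := exists_lift_surjective (p := P.q.rangeRestrict) P.q.surjective_rangeRestrict
    (g.codRestrict (LinearMap.range P.q) fun x => by
      rw [P.range_q]; exact LinearMap.congr_fun hg x)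
  exact ⟨z, LinearMap.ext fun x => congr(($(LinearMap.congr_fun hz x) : Fin P.n → A))⟩

variable {B : Type u'} [Category.{v'} B] [Preadditive B] [HasFiniteBiproducts B] {K : B}
  (κ : A →+* End K)

/-- The action of matrices on powers of `K`. -/
def phi {k l : ℕ} (h : (Fin k → A) →ₗ[A] (Fin l → A)) :
    (⨁ fun _ : Fin k => K) ⟶ ⨁ fun _ : Fin l => K :=
  biproduct.matrix fun i j => κ (h (Pi.single i 1) j)

/-- A functional as a morphism from a power of `K`. -/
def chi {k : ℕ} (h : (Fin k → A) →ₗ[A] A) : (⨁ fun _ : Fin k => K) ⟶ K :=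
  biproduct.desc fun i => κ (h (Pi.single i 1))

/-- A vector as a morphism to a power of `K`. -/
def psi {l : ℕ} (v : Fin l → A) : K ⟶ ⨁ fun _ : Fin l => K :=
  biproduct.lift fun j => κ (v j)

omit [HasFiniteBiproducts B] in
theorem kappa_comp (a b : A) : (κ a : K ⟶ K) ≫ κ b = κ (a * b) := by
  rw [mul_comm, map_mul]
  rfl

theorem sum_single {k : ℕ} (x : Fin k → A) : x = ∑ i, x i • Pi.single i (1 : A) := by
  ext j
  simp [Pi.single_apply]

theorem apply_eq_sum {k : ℕ} {M : Type u} [AddCommGroup M] [Module A M]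
    (h : (Fin k → A) →ₗ[A] M) (x : Fin k → A) : h x = ∑ i, x i • h (Pi.single i 1) := by
  conv_lhs => rw [sum_single x]
  simp only [map_sum, map_smul]

theorem phi_comp {k l r : ℕ} (h : (Fin k → A) →ₗ[A] (Fin l → A))
    (g : (Fin l → A) →ₗ[A] (Fin r → A)) : phi κ h ≫ phi κ g = phi κ (g.comp h) := by
  refine biproduct.hom_ext _ _ fun j => biproduct.hom_ext' _ _ fun i => ?_
  simp only [phi, Category.assoc, biproduct.matrix_π, biproduct.ι_matrix_assoc, biproduct.lift_desc,
    kappa_comp, LinearMap.comp_apply, biproduct.ι_desc]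
  rw [apply_eq_sum g (h (Pi.single i 1)), Finset.sum_apply, ← map_sum]
  simp

theorem phi_id {k : ℕ} : phi κ (LinearMap.id : (Fin k → A) →ₗ[A] (Fin k → A)) = 𝟙 _ := by
  refine biproduct.hom_ext _ _ fun j => biproduct.hom_ext' _ _ fun i => ?_
  simp only [phi, biproduct.matrix_π, biproduct.ι_desc, LinearMap.id_apply, Category.id_comp]
  rw [biproduct.ι_π, Pi.single_apply]
  by_cases h : i = j
  · subst h; simp [End.one_def]
  · simp [h, Ne.symm h]

theorem phi_add {k l : ℕ} (h g : (Fin k → A) →ₗ[A] (Fin l → A)) :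
    phi κ (h + g) = phi κ h + phi κ g := by
  refine biproduct.hom_ext _ _ fun j => biproduct.hom_ext' _ _ fun i => ?_
  simp only [phi, Preadditive.add_comp, Preadditive.comp_add, biproduct.matrix_π, biproduct.ι_desc,
    LinearMap.add_apply, Pi.add_apply, map_add]

theorem chi_comp {k l : ℕ} (h : (Fin k → A) →ₗ[A] (Fin l → A)) (g : (Fin l → A) →ₗ[A] A) :
    phi κ h ≫ chi κ g = chi κ (g.comp h) := by
  refine biproduct.hom_ext' _ _ fun i => ?_
  simp only [phi, chi, biproduct.ι_matrix_assoc, biproduct.lift_desc, kappa_comp,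
    biproduct.ι_desc, LinearMap.comp_apply]
  rw [apply_eq_sum g (h (Pi.single i 1)), ← map_sum]
  simp

theorem psi_chi {l : ℕ} (v : Fin l → A) (g : (Fin l → A) →ₗ[A] A) :
    psi κ v ≫ chi κ g = κ (g v) := by
  simp only [psi, chi, biproduct.lift_desc, kappa_comp]
  rw [apply_eq_sum g v, ← map_sum]
  simp

theorem chi_psi {k l : ℕ} (g : (Fin k → A) →ₗ[A] A) (v : Fin l → A) :
    chi κ g ≫ psi κ v = phi κ ((LinearMap.toSpanSingleton A _ v).comp g) := by
  refine biproduct.hom_ext _ _ fun j => biproduct.hom_ext' _ _ fun i => ?_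
  simp only [phi, psi, chi, Category.assoc, biproduct.lift_π, biproduct.ι_desc_assoc, kappa_comp,
    biproduct.matrix_π, biproduct.ι_desc, LinearMap.comp_apply, LinearMap.toSpanSingleton_apply,
    Pi.smul_apply, smul_eq_mul]

variable [HasCokernels B]

/-- The value at a module. -/
abbrev extObj (M : FP A) : B := cokernel (phi κ (pres M).q)

/-- The projection to the value. -/
abbrev extπ (M : FP A) : (⨁ fun _ : Fin (pres M).n => K) ⟶ extObj κ M := cokernel.π _

instance (M : FP A) : Epi (extπ κ M) := inferInstanceAs (Epi (cokernel.π _))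

theorem phi_extπ {M : FP A} {k : ℕ} (g g' : (Fin k → A) →ₗ[A] (Fin (pres M).n → A))
    (h : (pres M).p.comp g = (pres M).p.comp g') : phi κ g ≫ extπ κ M = phi κ g' ≫ extπ κ M := by
  obtain ⟨z, hz⟩ := (pres M).exists_factor (g - g') (by rw [LinearMap.comp_sub, h, sub_self])
  have : g = (pres M).q.comp z + g' := by rw [hz, sub_add_cancel]
  rw [this, phi_add, Preadditive.add_comp, ← phi_comp, Category.assoc, extπ, cokernel.condition,
    comp_zero, zero_add]

theorem exists_extMap {M N : FP A} (u : M ⟶ N) : ∃ f : extObj κ M ⟶ extObj κ N,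
    ∀ v : (Fin (pres M).n → A) →ₗ[A] (Fin (pres N).n → A),
      (pres N).p.comp v = (lin u).comp (pres M).p → extπ κ M ≫ f = phi κ v ≫ extπ κ N := by
  obtain ⟨v₀, hv₀⟩ := exists_lift_surjective (pres N).surj ((lin u).comp (pres M).p)
  refine ⟨cokernel.desc _ (phi κ v₀ ≫ extπ κ N) ?_, fun v hv => ?_⟩
  · have h0 : phi κ (0 : (Fin (pres M).m → A) →ₗ[A] (Fin (pres N).n → A)) ≫ extπ κ N = 0 := by
      rw [show phi κ (0 : (Fin (pres M).m → A) →ₗ[A] (Fin (pres N).n → A)) = 0 from by
        refine biproduct.hom_ext _ _ fun j => biproduct.hom_ext' _ _ fun i => ?_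
        simp [phi], zero_comp]
    rw [← Category.assoc, phi_comp, ← h0]
    refine phi_extπ κ _ _ ?_
    rw [← LinearMap.comp_assoc, hv₀, LinearMap.comp_assoc, (pres M).p_q, LinearMap.comp_zero,
      LinearMap.comp_zero]
  · exact (cokernel.π_desc _ _ _).trans (phi_extπ κ _ _ (hv₀.trans hv.symm))

/-- The value at a morphism. -/
def extMap {M N : FP A} (u : M ⟶ N) : extObj κ M ⟶ extObj κ N := (exists_extMap κ u).choose

theorem extMap_spec {M N : FP A} (u : M ⟶ N)
    (v : (Fin (pres M).n → A) →ₗ[A] (Fin (pres N).n → A))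
    (hv : (pres N).p.comp v = (lin u).comp (pres M).p) :
    extπ κ M ≫ extMap κ u = phi κ v ≫ extπ κ N := (exists_extMap κ u).choose_spec v hv

/-- The right exact functor attached to an action. -/
def extFunctor : FP A ⥤ B where
  obj := extObj κ
  map := extMap κ
  map_id M := (cancel_epi (extπ κ M)).mp (by
    rw [extMap_spec κ (𝟙 M) LinearMap.id rfl, phi_id, Category.id_comp, Category.comp_id])
  map_comp {M N L} u w := (cancel_epi (extπ κ M)).mp (by
    obtain ⟨v, hv⟩ := exists_lift_surjective (pres N).surj ((lin u).comp (pres M).p)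
    obtain ⟨z, hz⟩ := exists_lift_surjective (pres L).surj ((lin w).comp (pres N).p)
    rw [← Category.assoc, extMap_spec κ u v hv, Category.assoc, extMap_spec κ w z hz,
      ← Category.assoc, phi_comp]
    refine extMap_spec κ (u ≫ w) (z.comp v) ?_
    rw [← LinearMap.comp_assoc, hz, LinearMap.comp_assoc, hv]
    rfl)

instance : (extFunctor κ).Additive where
  map_add {M N u w} := (cancel_epi (extπ κ M)).mp (by
    obtain ⟨v, hv⟩ := exists_lift_surjective (pres N).surj ((lin u).comp (pres M).p)
    obtain ⟨z, hz⟩ := exists_lift_surjective (pres N).surj ((lin w).comp (pres M).p)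
    change extπ κ M ≫ extMap κ (u + w) = extπ κ M ≫ (extMap κ u + extMap κ w)
    rw [Preadditive.comp_add, extMap_spec κ u v hv, extMap_spec κ w z hz, ← Preadditive.add_comp,
      ← phi_add]
    refine extMap_spec κ (u + w) (v + z) ?_
    rw [LinearMap.comp_add, hv, hz]
    rfl)

theorem preservesColimit_extFunctor {M N : FP A} (u : M ⟶ N) :
    PreservesColimit (parallelPair u 0) (extFunctor κ) := by
  let Q : FP A := ⟨cokernel u.hom, (fpMod A).prop_cokernel u.hom M.property N.property⟩
  let π : N ⟶ Q := ObjectProperty.homMk (cokernel.π u.hom)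
  have hπ : Function.Surjective (lin π) := (ModuleCat.epi_iff_surjective _).mp
    (inferInstance : Epi (cokernel.π u.hom))
  have hker : LinearMap.ker (lin π) = LinearMap.range (lin u) := by
    refine le_antisymm (fun x hx => ?_) ?_
    · exact ((ShortComplex.ShortExact.moduleCat_exact_iff_function_exact _).mp
        (ShortComplex.exact_of_g_is_cokernel (ShortComplex.mk _ _ (cokernel.condition u.hom))
          (cokernelIsCokernel u.hom)) x).mp hx
    · rintro _ ⟨y, rfl⟩
      exact congr(($(cokernel.condition u.hom)).hom y)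
  let cf : CokernelCofork u := CokernelCofork.ofπ π (ObjectProperty.hom_ext _ (cokernel.condition _))
  have hcf : IsColimit cf := CokernelCofork.IsColimit.ofπ _ _
    (fun g hg => ObjectProperty.homMk (cokernel.desc u.hom g.hom congr(($hg).hom)))
    (fun g hg => ObjectProperty.hom_ext _ (cokernel.π_desc _ _ _))
    (fun g hg m hm => ObjectProperty.hom_ext _ ((cancel_epi (cokernel.π u.hom)).mp
      (congr(($hm).hom).trans (cokernel.π_desc u.hom g.hom congr(($hg).hom)).symm)))
  refine preservesColimit_of_preserves_colimit_cocone hcf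
    ((CokernelCofork.isColimitMapCoconeEquiv _ (extFunctor κ)).symm (Nonempty.some ?_))
  obtain ⟨v, hv⟩ := exists_lift_surjective (pres Q).surj ((lin π).comp (pres N).p)
  obtain ⟨s, hs⟩ := exists_lift_surjective (p := (lin π).comp (pres N).p)
    (hπ.comp (pres N).surj) (pres Q).p
  obtain ⟨vu, hvu⟩ := exists_lift_surjective (pres N).surj ((lin u).comp (pres M).p)
  have kill : ∀ {k : ℕ} (g : (Fin k → A) →ₗ[A] (Fin (pres N).n → A)),
      ((lin π).comp (pres N).p).comp g = 0 →
      ∀ {T : B} (t : extObj κ N ⟶ T), extMap κ u ≫ t = 0 → phi κ g ≫ extπ κ N ≫ t = 0 := by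
    intro k g hg T t ht
    obtain ⟨z, hz⟩ := exists_lift_surjective
      (p := (lin u).rangeRestrict.comp (pres M).p)
      ((lin u).surjective_rangeRestrict.comp (pres M).surj)
      (((pres N).p.comp g).codRestrict (LinearMap.range (lin u)) fun x =>
        hker.le (LinearMap.congr_fun hg x))
    have h1 : (pres N).p.comp g = (pres N).p.comp (vu.comp z) := by
      rw [← LinearMap.comp_assoc, hvu]
      exact LinearMap.ext fun x => congr(($(LinearMap.congr_fun hz x) : N.obj)).symm
    rw [← Category.assoc, phi_extπ κ _ _ h1, ← phi_comp, Category.assoc, Category.assoc,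
      ← Category.assoc (phi κ vu), ← extMap_spec κ u vu hvu, Category.assoc, ht, comp_zero,
      comp_zero]
  have hdesc : ∀ {T : B} (t : extObj κ N ⟶ T), extMap κ u ≫ t = 0 →
      ∃ d : extObj κ Q ⟶ T, extMap κ π ≫ d = t := by
    intro T t ht
    refine ⟨cokernel.desc _ (phi κ s ≫ extπ κ N ≫ t) ?_, (cancel_epi (extπ κ N)).mp ?_⟩
    · rw [← Category.assoc, phi_comp]
      refine kill _ ?_ t ht
      rw [← LinearMap.comp_assoc, hs, (pres Q).p_q]
    · rw [← Category.assoc, extMap_spec κ π v hv, Category.assoc, extπ]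
      erw [cokernel.π_desc]
      rw [← Category.assoc, phi_comp]
      have h2 : phi κ (s.comp v - LinearMap.id) ≫ extπ κ N ≫ t = 0 := by
        refine kill _ ?_ t ht
        rw [LinearMap.comp_sub, ← LinearMap.comp_assoc, hs, hv, LinearMap.comp_id, sub_self]
      have e : s.comp v = (s.comp v - LinearMap.id) + LinearMap.id := (sub_add_cancel _ _).symm
      rw [e, phi_add, Preadditive.add_comp, phi_id, Category.id_comp]
      exact (congrArg (· + extπ κ N ≫ t) h2).trans (zero_add _)
  have hepi : Epi (extMap κ π) := by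
    have h3 : extπ κ Q = phi κ s ≫ extπ κ N ≫ extMap κ π := by
      rw [extMap_spec κ π v hv, ← Category.assoc, phi_comp]
      conv_lhs => rw [← Category.id_comp (extπ κ Q), ← phi_id κ]
      refine phi_extπ κ _ _ ?_
      rw [LinearMap.comp_id, ← LinearMap.comp_assoc, hv, hs]
    refine ⟨fun g₁ g₂ h => (cancel_epi (extπ κ Q)).mp ?_⟩
    rw [h3, Category.assoc, Category.assoc, Category.assoc, Category.assoc, h]
  exact ⟨CokernelCofork.IsColimit.ofπ (extMap κ π)
    (((extFunctor κ).map_comp u π).symm.trans
      ((congrArg (extFunctor κ).map cf.condition).trans (Functor.map_zero _ _ _)))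
    (fun t ht => (hdesc t ht).choose) (fun t ht => (hdesc t ht).choose_spec)
    (fun t ht m hm => hepi.left_cancellation _ _ (hm.trans (hdesc t ht).choose_spec.symm))⟩

theorem preservesFiniteColimits_extFunctor : PreservesFiniteColimits (extFunctor κ) := by
  haveI : HasFiniteBiproducts (FP A) := HasFiniteBiproducts.of_hasFiniteProducts
  haveI : HasCokernels (FP A) := ⟨fun f => by
    exact ⟨⟨⟨CokernelCofork.ofπ
      (ObjectProperty.homMk (cokernel.π f.hom) : _ ⟶ (⟨cokernel f.hom,
        (fpMod A).prop_cokernel f.hom (ObjectProperty.FullSubcategory.property _)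
          (ObjectProperty.FullSubcategory.property _)⟩ : FP A))
      (ObjectProperty.hom_ext _ (cokernel.condition _)),
      CokernelCofork.IsColimit.ofπ _ _
        (fun g hg => ObjectProperty.homMk (cokernel.desc f.hom g.hom congr(($hg).hom)))
        (fun g hg => ObjectProperty.hom_ext _ (cokernel.π_desc _ _ _))
        (fun g hg m hm => ObjectProperty.hom_ext _ ((cancel_epi (cokernel.π f.hom)).mp
          (congr(($hm).hom).trans (cokernel.π_desc f.hom g.hom congr(($hg).hom)).symm)))⟩⟩⟩⟩
  haveI : HasCoequalizers (FP A) := Preadditive.hasCoequalizers_of_hasCokernels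
  haveI : ∀ {X Y : FP A} (f : X ⟶ Y), PreservesColimit (parallelPair f 0) (extFunctor κ) :=
    fun f => preservesColimit_extFunctor κ f
  exact Functor.preservesFiniteColimits_of_preservesCokernels (extFunctor κ)

/-- The value at the ring. -/
theorem exists_extRingIso : ∃ e : extObj κ (ringObj (A := A)) ≅ K, ∀ a : A,
    extMap κ (ofLin (M := ringObj) (N := ringObj) (LinearMap.lsmul A A a)) ≫ e.hom =
      e.hom ≫ κ a := by
  let P := pres (ringObj (A := A))
  obtain ⟨s, hs⟩ := P.surj (1 : A)
  have hq : phi κ P.q ≫ chi κ (P.p : (Fin P.n → A) →ₗ[A] A) = 0 := by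
    refine (chi_comp κ P.q P.p).trans ?_
    rw [P.p_q]
    exact biproduct.hom_ext' _ _ fun i => by simp [chi]
  let h : extObj κ (ringObj (A := A)) ⟶ K := cokernel.desc _ (chi κ P.p) hq
  have hπ : extπ κ ringObj ≫ h = chi κ (P.p : (Fin P.n → A) →ₗ[A] A) := cokernel.π_desc _ _ _
  let e : extObj κ (ringObj (A := A)) ≅ K :=
    { hom := h
      inv := psi κ s ≫ extπ κ ringObj
      hom_inv_id := (cancel_epi (extπ κ ringObj)).mp (by
        rw [← Category.assoc, hπ, ← Category.assoc, chi_psi, Category.comp_id]
        conv_rhs => rw [← Category.id_comp (extπ κ ringObj), ← phi_id κ]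
        refine phi_extπ κ _ _ ?_
        refine LinearMap.ext fun x => ?_
        change P.p ((P.p x : A) • s) = P.p x
        rw [map_smul, hs]
        exact mul_one _)
      inv_hom_id := by
        rw [Category.assoc, hπ, psi_chi]
        exact (congrArg κ hs).trans (map_one κ) }
  refine ⟨e, fun a => (cancel_epi (extπ κ ringObj)).mp ?_⟩
  obtain ⟨v, hv⟩ := exists_lift_surjective P.surj
    ((lin (ofLin (M := ringObj) (N := ringObj) (LinearMap.lsmul A A a))).comp P.p)
  rw [← Category.assoc, extMap_spec κ _ v hv, Category.assoc, hπ, chi_comp, ← Category.assoc, hπ]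
  refine biproduct.hom_ext' _ _ fun i => ?_
  simp only [chi, biproduct.ι_desc, biproduct.ι_desc_assoc, kappa_comp, LinearMap.comp_apply]
  have := LinearMap.congr_fun hv (Pi.single i (1 : A))
  refine congrArg κ (this.trans ?_)
  exact mul_comm (G := A) a _

end Groth.Agent.IndExt72
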