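import Groth.Agent.IndExt72.FPExt

/-!
Right exact functors on finitely presented modules are determined by their value at the ring.
-/

set_option autoImplicit false
set_option backward.isDefEq.respectTransparency.types false
set_option linter.style.haveILetI false
set_option linter.unusedSectionVars false

noncomputable section

universe u v' u'

open CategoryTheory Limits

attribute [local instance] hasBinaryBiproducts_of_finite_biproducts

namespace Groth.Agent.IndExt72

variable {A : Type u} [CommRing A] {B : Type u'} [Category.{v'} B] [Preadditive B]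
  [HasFiniteBiproducts B]

theorem additive_of_rightExact (F : FP A ⥤ B) [PreservesFiniteColimits F] : F.Additive := by
  haveI : HasFiniteBiproducts (FP A) := HasFiniteBiproducts.of_hasFiniteProducts
  have := preservesBinaryBiproducts_of_preservesBinaryCoproducts F
  exact Functor.additive_of_preservesBinaryBiproducts _

theorem ofLin_comp {M N L : FP A} (f : M.obj →ₗ[A] N.obj) (g : N.obj →ₗ[A] L.obj) :
    ofLin (M := M) (N := N) f ≫ ofLin (M := N) (N := L) g = ofLin (g.comp f) := rfl

theorem sum_hom {ι : Type*} (s : Finset ι) {M N : FP A} (f : ι → (M ⟶ N)) :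
    (∑ i ∈ s, f i).hom = ∑ i ∈ s, (f i).hom := (fpMod A).ι.map_sum f s

/-- The presentation as a cofork in the category of finitely presented modules. -/
def presCofork (M : FP A) :
    CokernelCofork (ofLin (M := free (pres M).m) (N := free (pres M).n) (pres M).q) :=
  CokernelCofork.ofπ (ofLin (M := free (pres M).n) (N := M) (pres M).p)
    (ObjectProperty.hom_ext _ (ModuleCat.hom_ext (pres M).p_q))

theorem nonempty_isColimit_presCofork (M : FP A) : Nonempty (IsColimit (presCofork M)) := by
  let P := pres M
  have key : ∀ {N : FP A} (g : free P.n ⟶ N), ofLin (M := free P.m) (N := free P.n) P.q ≫ g = 0 →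
      ∃ d : M ⟶ N, ofLin (M := free P.n) (N := M) P.p ≫ d = g := by
    intro N g hg
    have hle : LinearMap.ker P.p ≤ LinearMap.ker (lin g) := by
      rw [← P.range_q]
      rintro _ ⟨x, rfl⟩
      exact congr(($hg).hom.hom x)
    refine ⟨ofLin (((LinearMap.ker P.p).liftQ (lin g) hle).comp
      (P.p.quotKerEquivOfSurjective P.surj).symm.toLinearMap),
      ObjectProperty.hom_ext _ (ModuleCat.hom_ext (LinearMap.ext fun x => ?_))⟩
    change (LinearMap.ker P.p).liftQ (lin g) hle
      ((P.p.quotKerEquivOfSurjective P.surj).symm (P.p x)) = lin g x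
    rw [show (P.p.quotKerEquivOfSurjective P.surj).symm (P.p x) = Submodule.Quotient.mk x from
      (LinearEquiv.symm_apply_eq _).mpr rfl]
    rfl
  exact ⟨CokernelCofork.IsColimit.ofπ _ (presCofork M).condition (fun g hg => (key g hg).choose)
    (fun g hg => (key g hg).choose_spec) (fun g hg m hm =>
      ObjectProperty.hom_ext _ (ModuleCat.hom_ext ((LinearMap.cancel_right P.surj).mp
        (congr(($(hm.trans (key g hg).choose_spec.symm)).hom.hom)))))⟩

section

variable (F F' : FP A ⥤ B) [F.Additive] [F'.Additive]
  (φ : F.obj ringObj ⟶ F'.obj ringObj)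

/-- The map on free modules. -/
def freeHom (n : ℕ) : F.obj (free n) ⟶ F'.obj (free n) :=
  ∑ i : Fin n, F.map (ofLin (M := free n) (N := ringObj) (LinearMap.proj i)) ≫ φ ≫
    F'.map (ofLin (M := ringObj) (N := free n) (LinearMap.single A (fun _ => A) i))

variable (hφ : ∀ a : A, F.map (ofLin (M := ringObj) (N := ringObj) (LinearMap.lsmul A A a)) ≫ φ =
    φ ≫ F'.map (ofLin (M := ringObj) (N := ringObj) (LinearMap.lsmul A A a)))

include hφ in
theorem freeHom_naturality {n m : ℕ} (h : (Fin n → A) →ₗ[A] (Fin m → A)) :
    F.map (ofLin (M := free n) (N := free m) h) ≫ freeHom F F' φ m =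
      freeHom F F' φ n ≫ F'.map (ofLin (M := free n) (N := free m) h) := by
  let a : Fin n → Fin m → A := fun i j => h (Pi.single i 1) j
  have e1 : ∀ i, ofLin (M := ringObj) (N := free n) (LinearMap.single A (fun _ => A) i) ≫
      ofLin (M := free n) (N := free m) h = ∑ j, ofLin (M := ringObj) (N := ringObj)
        (LinearMap.lsmul A A (a i j)) ≫
          ofLin (M := ringObj) (N := free m) (LinearMap.single A (fun _ => A) j) := fun i => by
    refine ObjectProperty.hom_ext _ (ModuleCat.hom_ext (LinearMap.ext_ring ?_))
    simp only [ObjectProperty.FullSubcategory.comp_hom, ObjectProperty.homMk_hom,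
      sum_hom, ModuleCat.hom_comp, ModuleCat.hom_sum,
      LinearMap.comp_apply, LinearMap.sum_apply, ModuleCat.hom_ofHom]
    funext k
    simp [a, Pi.single_apply, Finset.sum_apply]
  have e2 : ∀ j, ofLin (M := free n) (N := free m) h ≫
      ofLin (M := free m) (N := ringObj) (LinearMap.proj j) = ∑ i,
        ofLin (M := free n) (N := ringObj) (LinearMap.proj i) ≫
          ofLin (M := ringObj) (N := ringObj) (LinearMap.lsmul A A (a i j)) := fun j => by
    refine ObjectProperty.hom_ext _ (ModuleCat.hom_ext (LinearMap.ext fun x => ?_))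
    simp only [ObjectProperty.FullSubcategory.comp_hom, ObjectProperty.homMk_hom,
      sum_hom, ModuleCat.hom_comp, ModuleCat.hom_sum,
      LinearMap.comp_apply, LinearMap.sum_apply, ModuleCat.hom_ofHom, LinearMap.proj_apply,
      LinearMap.lsmul_apply]
    rw [apply_eq_sum h x, Finset.sum_apply]
    exact Finset.sum_congr rfl fun i _ => mul_comm _ _
  simp only [freeHom, Preadditive.comp_sum, Preadditive.sum_comp, Category.assoc, ← F'.map_comp,
    e1, F'.map_sum, ← F.map_comp_assoc, e2, F.map_sum, Preadditive.sum_comp, Category.assoc]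
  rw [Finset.sum_comm]
  refine Finset.sum_congr rfl fun i _ => Finset.sum_congr rfl fun j _ => ?_
  simp only [Functor.map_comp, Category.assoc]
  exact congrArg (_ ≫ ·) (by rw [← Category.assoc, hφ, Category.assoc])

variable [PreservesFiniteColimits F]

theorem epi_map_pres (M : FP A) : Epi (F.map (ofLin (M := free (pres M).n) (N := M) (pres M).p)) := by
  obtain ⟨hc⟩ := nonempty_isColimit_presCofork M
  exact Cofork.IsColimit.epi (CokernelCofork.mapIsColimit _ hc F)

include hφ in
theorem exists_app (M : FP A) : ∃ t : F.obj M ⟶ F'.obj M,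
    F.map (ofLin (M := free (pres M).n) (N := M) (pres M).p) ≫ t =
      freeHom F F' φ (pres M).n ≫
        F'.map (ofLin (M := free (pres M).n) (N := M) (pres M).p) := by
  obtain ⟨hc⟩ := nonempty_isColimit_presCofork M
  refine ⟨_, (CokernelCofork.IsColimit.desc' (CokernelCofork.mapIsColimit _ hc F)
    (freeHom F F' φ (pres M).n ≫
      F'.map (ofLin (M := free (pres M).n) (N := M) (pres M).p)) ?_).2⟩
  rw [← Category.assoc, freeHom_naturality F F' φ hφ, Category.assoc, ← F'.map_comp]
  exact ((congrArg (freeHom F F' φ (pres M).m ≫ ·)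
    ((congrArg F'.map (presCofork M).condition).trans (F'.map_zero _ _))).trans comp_zero)

include hφ in
theorem exists_natTrans_fp : ∃ t : F ⟶ F', t.app ringObj = φ := by
  choose t ht using exists_app F F' φ hφ
  let T : F ⟶ F' :=
    { app := t
      naturality := fun M N u => by
        haveI := epi_map_pres F M
        obtain ⟨v, hv⟩ := exists_lift_surjective (pres N).surj ((lin u).comp (pres M).p)
        have hv' : ofLin (M := free (pres M).n) (N := free (pres N).n) v ≫
            ofLin (M := free (pres N).n) (N := N) (pres N).p =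
              ofLin (M := free (pres M).n) (N := M) (pres M).p ≫ u :=
          ObjectProperty.hom_ext _ (ModuleCat.hom_ext hv)
        refine (cancel_epi (F.map (ofLin (M := free (pres M).n) (N := M) (pres M).p))).mp ?_
        rw [← F.map_comp_assoc, ← hv', F.map_comp_assoc, ht, ← Category.assoc (F.map _),
          freeHom_naturality F F' φ hφ, Category.assoc, ← F'.map_comp, hv', F'.map_comp,
          ← Category.assoc, ← ht, Category.assoc] }
  refine ⟨T, ?_⟩
  haveI := epi_map_pres F (ringObj (A := A))
  refine (cancel_epi (F.map (ofLin (M := free (pres (ringObj (A := A))).n) (N := ringObj)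
    (pres (ringObj (A := A))).p))).mp ?_
  change F.map _ ≫ t ringObj = _
  rw [ht]
  let n := (pres (ringObj (A := A))).n
  let p : (Fin n → A) →ₗ[A] A := (pres (ringObj (A := A))).p
  have e3 : ∀ i, ofLin (M := ringObj) (N := free n) (LinearMap.single A (fun _ => A) i) ≫
      ofLin (M := free n) (N := ringObj) p =
      ofLin (M := ringObj) (N := ringObj) (LinearMap.lsmul A A (p (Pi.single i 1))) := fun i => by
    refine ObjectProperty.hom_ext _ (ModuleCat.hom_ext (LinearMap.ext_ring ?_))
    exact (mul_one _).symm
  have e4 : ∑ i, ofLin (M := free n) (N := ringObj) (LinearMap.proj i) ≫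
      ofLin (M := ringObj) (N := ringObj) (LinearMap.lsmul A A (p (Pi.single i 1))) =
      ofLin (M := free n) (N := ringObj) p := by
    refine ObjectProperty.hom_ext _ (ModuleCat.hom_ext (LinearMap.ext fun x => ?_))
    simp only [ObjectProperty.FullSubcategory.comp_hom, ObjectProperty.homMk_hom,
      sum_hom, ModuleCat.hom_comp, ModuleCat.hom_sum,
      LinearMap.comp_apply, LinearMap.sum_apply, ModuleCat.hom_ofHom]
    rw [apply_eq_sum p x]
    exact Finset.sum_congr rfl fun i _ => mul_comm _ _
  change freeHom F F' φ n ≫ F'.map (ofLin (M := free n) (N := ringObj) p) =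
    F.map (ofLin (M := free n) (N := ringObj) p) ≫ φ
  rw [← e4, F.map_sum, Preadditive.sum_comp, freeHom, Preadditive.sum_comp, e4]
  refine Finset.sum_congr rfl fun i _ => ?_
  rw [Category.assoc, Category.assoc, ← F'.map_comp, e3, ← hφ, F.map_comp, Category.assoc]

theorem natTrans_fp_ext {t t' : F ⟶ F'} (h : t.app ringObj = t'.app ringObj) : t = t' := by
  have hfree : ∀ n, t.app (free n) = t'.app (free n) := fun n => by
    have hid : ∑ i : Fin n, ofLin (M := free n) (N := ringObj) (LinearMap.proj i) ≫
        ofLin (M := ringObj) (N := free n) (LinearMap.single A (fun _ => A) i) = 𝟙 (free n) := by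
      refine ObjectProperty.hom_ext _ (ModuleCat.hom_ext (LinearMap.ext fun x => ?_))
      simp only [ObjectProperty.FullSubcategory.comp_hom, ObjectProperty.homMk_hom,
        sum_hom, ObjectProperty.FullSubcategory.id_hom,
        ModuleCat.hom_comp, ModuleCat.hom_sum, ModuleCat.hom_id, ModuleCat.hom_ofHom,
        LinearMap.comp_apply, LinearMap.sum_apply, LinearMap.id_apply, LinearMap.proj_apply]
      funext k
      simp [Finset.sum_apply, Pi.single_apply]
    rw [← Category.id_comp (t.app _), ← Category.id_comp (t'.app _), ← F.map_id, ← hid, F.map_sum,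
      Preadditive.sum_comp, Preadditive.sum_comp]
    refine Finset.sum_congr rfl fun i _ => ?_
    simp only [F.map_comp, Category.assoc, NatTrans.naturality]
    rw [h]
  refine NatTrans.ext (funext fun M => ?_)
  haveI := epi_map_pres F M
  refine (cancel_epi (F.map (ofLin (M := free (pres M).n) (N := M) (pres M).p))).mp ?_
  rw [NatTrans.naturality, NatTrans.naturality, hfree]

end

end Groth.Agent.IndExt72
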