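import Groth.Agent.IndExt72.ModFP
import Groth.Agent.S12206
import Groth.Agent.DR39.PC3
import Mathlib.Algebra.Category.ModuleCat.Kernels
import Mathlib.Algebra.Category.ModuleCat.Products
import Mathlib.CategoryTheory.ObjectProperty.Kernels
import Mathlib.CategoryTheory.ObjectProperty.FiniteProducts

/-!
Exactness of functors on modules which extend functors on finitely presented modules.
-/

set_option autoImplicit false
set_option backward.isDefEq.respectTransparency.types false
set_option linter.style.haveILetI false

noncomputable section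

universe u v' u'

open CategoryTheory Limits

attribute [local instance] hasBinaryBiproducts_of_finite_biproducts

namespace Groth.Agent.IndExt72

variable {A : Type u} [CommRing A]

instance : (fpMod A).IsClosedUnderIsomorphisms :=
  ⟨fun e h => haveI : Module.FinitePresentation A _ := h
    Module.FinitePresentation.of_equiv e.toLinearEquiv⟩

instance : (fpMod A).IsClosedUnderFiniteProducts := by
  refine ObjectProperty.IsClosedUnderFiniteProducts.of_isClosedUnderLimitsOfShape.{0}
    fun J _ => ?_
  refine ⟨fun M ⟨p⟩ => ?_⟩
  classical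
  cases nonempty_fintype J
  haveI : ∀ j, Module.FinitePresentation A (p.diag.obj ⟨j⟩) := fun j => p.prop_diag_obj ⟨j⟩
  let e : ModuleCat.of A (∀ j, p.diag.obj ⟨j⟩) ≅ M :=
    (ModuleCat.piIsoPi fun j => p.diag.obj ⟨j⟩).symm ≪≫
      (limit.isLimit (Discrete.functor fun j => p.diag.obj ⟨j⟩)).conePointsIsoOfNatIso p.isLimit
        (Discrete.natIso fun ⟨j⟩ => Iso.refl _)
  haveI : Module.FinitePresentation A (∀ j, p.diag.obj ⟨j⟩) := inferInstance
  exact Module.FinitePresentation.of_equiv e.toLinearEquiv

instance : (fpMod A).IsClosedUnderCokernels :=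
  ⟨fun M h => by
    cases h with
    | @of_isColimit X Y f k hk hf =>
      haveI : Module.FinitePresentation A X := hf.1
      haveI : Module.FinitePresentation A Y := hf.2
      haveI : Module.FinitePresentation A (Y ⧸ LinearMap.range f.hom) :=
        Module.finitePresentation_of_surjective (LinearMap.range f.hom).mkQ
          (LinearMap.range f.hom).mkQ_surjective (by
            rw [Submodule.ker_mkQ, LinearMap.range_eq_map]
            exact Module.Finite.fg_top.map f.hom)
      haveI : Module.FinitePresentation A (ModuleCat.cokernelCocone f).pt :=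
        ‹Module.FinitePresentation A (Y ⧸ LinearMap.range f.hom)›
      exact Module.FinitePresentation.of_equiv
        ((ModuleCat.cokernelIsColimit f).coconePointUniqueUpToIso hk).toLinearEquiv⟩

theorem kernel_mem (hcoh : ∀ I : Ideal A, I.FG → Module.FinitePresentation A I)
    {M N : ModuleCat.{u} A} (h : M ⟶ N) (hM : fpMod A M) (hN : fpMod A N) :
    fpMod A (kernel h) := by
  haveI : Module.FinitePresentation A M := hM
  haveI : Module.FinitePresentation A N := hN
  have coh : ∀ (M : Type u) [AddCommGroup M] [Module A M], Module.FinitePresentation A M →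
      ∀ S : Submodule A M, S.FG → Module.FinitePresentation A S := by
    intro M _ _ hM S hS
    obtain ⟨n, p, hp⟩ := Module.Finite.exists_fin' A M
    obtain ⟨m, q, hq⟩ := (Submodule.fg_iff_exists_fin_generating_family).mp
      (Module.FinitePresentation.fg_ker p hp)
    let φ : (Fin m → A) →ₗ[A] (Fin n → A) := Fintype.linearCombination A q
    have hφ : LinearMap.range φ = LinearMap.ker p := (Fintype.range_linearCombination A q).trans hq
    have h1 := (Groth.Agent.S12206.result A ⟨inferInstance,
      fun P hP => DR39.finitePresentation_submodule_pi hcoh n P hP⟩ φ).2.2.2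
    let e : ((Fin n → A) ⧸ LinearMap.range φ) ≃ₗ[A] M :=
      (Submodule.quotEquivOfEq _ _ hφ).trans (p.quotKerEquivOfSurjective hp)
    have h2 := h1 _ (hS.map (e.symm : M →ₗ[A] _))
    exact Module.FinitePresentation.of_equiv
      (Submodule.equivMapOfInjective _ e.symm.injective S).symm
  have hk := (Groth.Agent.S12206.result A (N := M) ⟨inferInstance, coh N hN⟩ h.hom).1
  haveI := coh M hM _ hk
  exact Module.FinitePresentation.of_equiv (ModuleCat.kernelIsoKer h).symm.toLinearEquiv

variable {B : Type u'} [Category.{v'} B] [Preadditive B] (G : ModuleCat.{u} A ⥤ B)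
  [G.Additive]

theorem preservesColimit_of_preservesFiniteColimits
    [PreservesFiniteColimits ((fpMod A).ι ⋙ G)] ⦃M N : ModuleCat.{u} A⦄ (h : M ⟶ N)
    (hM : fpMod A M) (hN : fpMod A N) : PreservesColimit (parallelPair h 0) G := by
  let h' : (⟨M, hM⟩ : (fpMod A).FullSubcategory) ⟶ ⟨N, hN⟩ := ObjectProperty.homMk h
  have hQ : fpMod A (cokernel h) := (fpMod A).prop_cokernel h hM hN
  let c' : CokernelCofork h' := CokernelCofork.ofπ
    (ObjectProperty.homMk (cokernel.π h) : (⟨N, hN⟩ : (fpMod A).FullSubcategory) ⟶ ⟨_, hQ⟩)
    (ObjectProperty.hom_ext _ (cokernel.condition h))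
  have hc' : IsColimit c' :=
    CokernelCofork.IsColimit.ofπ _ _
      (fun g hg => ObjectProperty.homMk (cokernel.desc h g.hom congr(($hg).hom)))
      (fun g hg => ObjectProperty.hom_ext _ (cokernel.π_desc _ _ _))
      (fun g hg m hm => ObjectProperty.hom_ext _ ((cancel_epi (cokernel.π h)).mp
        (congr(($hm).hom).trans (cokernel.π_desc h g.hom congr(($hg).hom)).symm)))
  have h2 := CokernelCofork.mapIsColimit c' hc' ((fpMod A).ι ⋙ G)
  exact preservesColimit_of_preserves_colimit_cocone (cokernelIsCokernel h)
    ((CokernelCofork.isColimitMapCoconeEquiv _ G).symm h2)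

theorem preservesLimit_of_preservesFiniteLimits
    (hcoh : ∀ I : Ideal A, I.FG → Module.FinitePresentation A I)
    [PreservesFiniteLimits ((fpMod A).ι ⋙ G)] ⦃M N : ModuleCat.{u} A⦄ (h : M ⟶ N)
    (hM : fpMod A M) (hN : fpMod A N) : PreservesLimit (parallelPair h 0) G := by
  let h' : (⟨M, hM⟩ : (fpMod A).FullSubcategory) ⟶ ⟨N, hN⟩ := ObjectProperty.homMk h
  have hK : fpMod A (kernel h) := kernel_mem hcoh h hM hN
  let c' : KernelFork h' := KernelFork.ofι
    (ObjectProperty.homMk (kernel.ι h) : (⟨_, hK⟩ : (fpMod A).FullSubcategory) ⟶ ⟨M, hM⟩)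
    (ObjectProperty.hom_ext _ (kernel.condition h))
  have hc' : IsLimit c' :=
    KernelFork.IsLimit.ofι _ _
      (fun g hg => ObjectProperty.homMk (kernel.lift h g.hom congr(($hg).hom)))
      (fun g hg => ObjectProperty.hom_ext _ (kernel.lift_ι _ _ _))
      (fun g hg m hm => ObjectProperty.hom_ext _ ((cancel_mono (kernel.ι h)).mp
        (congr(($hm).hom).trans (kernel.lift_ι h g.hom congr(($hg).hom)).symm)))
  have h2 := KernelFork.mapIsLimit c' hc' ((fpMod A).ι ⋙ G)
  exact preservesLimit_of_preserves_limit_cone (kernelIsKernel h)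
    ((KernelFork.isLimitMapConeEquiv _ G).symm h2)

omit [G.Additive] in
/-- An extension of an additive functor on finitely presented modules. -/
theorem additive_and_coproducts [HasFiniteBiproducts B] [HasFilteredColimitsOfSize.{u, u} B]
    [PreservesFilteredColimitsOfSize.{u, u} G] [((fpMod A).ι ⋙ G).Additive] :
    G.Additive ∧ ∀ J : Type u, PreservesColimitsOfShape (Discrete J) G := by
  have hP := gen_fpMod A
  have hG := isExtension_of_preservesFilteredColimits hP G
  haveI : G.Additive := hG.additive hP
  exact ⟨inferInstance, fun J => preservesColimitsOfShape_discrete_of_filtered G J⟩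

omit [G.Additive] in
/-- An extension of a right exact functor on finitely presented modules. -/
theorem rightExact [HasFiniteBiproducts B] [HasCokernels B] [HasFilteredColimitsOfSize.{u, u} B]
    [PreservesFilteredColimitsOfSize.{u, u} G] [PreservesFiniteColimits ((fpMod A).ι ⋙ G)] :
    G.Additive ∧ PreservesFiniteColimits G ∧
      ∀ J : Type u, PreservesColimitsOfShape (Discrete J) G := by
  haveI : HasFiniteBiproducts (fpMod A).FullSubcategory := HasFiniteBiproducts.of_hasFiniteProducts
  haveI : ((fpMod A).ι ⋙ G).Additive :=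
    have := preservesBinaryBiproducts_of_preservesBinaryCoproducts ((fpMod A).ι ⋙ G)
    Functor.additive_of_preservesBinaryBiproducts _
  obtain ⟨hadd, hcop⟩ := additive_and_coproducts G
  haveI := hadd
  refine ⟨hadd, ?_, hcop⟩
  haveI : ∀ {X Y : ModuleCat.{u} A} (f : X ⟶ Y), PreservesColimit (parallelPair f 0) G :=
    fun f => preservesCokernel G (gen_fpMod A) (preservesColimit_of_preservesFiniteColimits G) f
  haveI : HasZeroObject B := hasZeroObject_of_hasFiniteBiproducts B
  exact Functor.preservesFiniteColimits_of_preservesCokernels G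

omit [G.Additive] in
/-- An extension of a left exact functor on finitely presented modules over a coherent ring. -/
theorem leftExact (hcoh : ∀ I : Ideal A, I.FG → Module.FinitePresentation A I)
    [HasFiniteBiproducts B] [HasKernels B] [HasFilteredColimitsOfSize.{u, u} B]
    (hcomm : ∀ (J : Type u) [SmallCategory J] [IsFiltered J],
      PreservesLimitsOfShape WalkingParallelPair (colim : (J ⥤ B) ⥤ B))
    [PreservesFilteredColimitsOfSize.{u, u} G] [PreservesFiniteLimits ((fpMod A).ι ⋙ G)] :
    G.Additive ∧ PreservesFiniteLimits G ∧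
      ∀ J : Type u, PreservesColimitsOfShape (Discrete J) G := by
  haveI : HasFiniteBiproducts (fpMod A).FullSubcategory := HasFiniteBiproducts.of_hasFiniteProducts
  haveI : ((fpMod A).ι ⋙ G).Additive :=
    have := preservesBinaryBiproducts_of_preservesBinaryProducts ((fpMod A).ι ⋙ G)
    Functor.additive_of_preservesBinaryBiproducts _
  obtain ⟨hadd, hcop⟩ := additive_and_coproducts G
  haveI := hadd
  refine ⟨hadd, ?_, hcop⟩
  haveI : ∀ {X Y : ModuleCat.{u} A} (f : X ⟶ Y), PreservesLimit (parallelPair f 0) G :=
    fun f => preservesKernel G (gen_fpMod A) (fun J _ _ => inferInstance) hcomm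
      (preservesLimit_of_preservesFiniteLimits G hcoh) f
  haveI : HasZeroObject B := hasZeroObject_of_hasFiniteBiproducts B
  exact Functor.preservesFiniteLimits_of_preservesKernels G

end Groth.Agent.IndExt72
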