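import Groth.Agent.IndExt72.Exact
import Groth.Agent.QCFilt72.Presentable
import Mathlib.Algebra.Category.ModuleCat.AB
import Mathlib.Algebra.Category.ModuleCat.FilteredColimits
import Mathlib.CategoryTheory.Presentable.StrongGenerator
import Mathlib.CategoryTheory.Presentable.Dense

/-!
Finitely presented modules generate all modules under filtered colimits.
-/

set_option autoImplicit false
set_option backward.isDefEq.respectTransparency.types false

noncomputable section

universe u

open CategoryTheory Limits

attribute [local instance] Cardinal.fact_isRegular_aleph0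

namespace Groth.Agent.IndExt72

variable (A : Type u) [CommRing A]

/-- Finitely presented modules. -/
abbrev fpMod : ObjectProperty (ModuleCat.{u} A) := fun M => Module.FinitePresentation A M

variable {A}

/-- Finitely presented modules are finitely presentable. -/
theorem isFinitelyPresentable_of_finitePresentation (M : ModuleCat.{u} A)
    [Module.FinitePresentation A M] : IsFinitelyPresentable.{u} M := by
  classical
  rw [isFinitelyPresentable_iff_preservesFilteredColimitsOfSize]
  refine ⟨fun J _ _ => ⟨fun {D} => ⟨fun {c} hc => ?_⟩⟩⟩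
  let hc' := isColimitOfPreserves (forget (ModuleCat.{u} A)) hc
  obtain ⟨m, p, hp⟩ := Module.Finite.exists_fin' A M
  obtain ⟨S, hS⟩ := Module.FinitePresentation.fg_ker p hp
  refine ⟨Types.FilteredColimit.isColimitOf' _ _ (fun φ => ?_) fun i a b hab => ?_⟩
  · choose k s hs using fun t : Fin m =>
      Types.jointly_surjective_of_isColimit hc' (φ.hom (p (Pi.single t 1)))
    obtain ⟨i, hi⟩ := IsFiltered.sup_objs_exists (Finset.univ.image k)
    let f : ∀ t, k t ⟶ i := fun t => (hi (Finset.mem_image_of_mem k (Finset.mem_univ t))).some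
    let q : (Fin m → A) →ₗ[A] D.obj i :=
      Fintype.linearCombination A fun t => (D.map (f t)).hom (s t)
    have hw : ∀ {i j : J} (g : i ⟶ j) (x : D.obj i),
        (c.ι.app j).hom ((D.map g).hom x) = (c.ι.app i).hom x := fun g x => congr($(c.w g).hom x)
    have hq : (c.ι.app i).hom.comp q = φ.hom.comp p := by
      refine LinearMap.pi_ext' fun t => LinearMap.ext_ring ?_
      change (c.ι.app i).hom (q (Pi.single t 1)) = φ.hom (p (Pi.single t 1))
      rw [show q (Pi.single t 1) = (D.map (f t)).hom (s t) by simp [q], hw]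
      exact hs t
    have hrel : ∀ z : S, ∃ (n : J) (g : i ⟶ n), (D.map g).hom (q z) = 0 := fun z => by
      have hz : p z = 0 := hS.le (Submodule.subset_span z.2)
      have h0 : (c.ι.app i).hom (q z) = (c.ι.app i).hom (0 : D.obj i) := by
        rw [map_zero]
        exact (LinearMap.congr_fun hq z).trans (by simp [hz])
      obtain ⟨n, g, g', e⟩ := (Types.FilteredColimit.isColimit_eq_iff _ hc').mp h0
      exact ⟨n, g, e.trans (map_zero (D.map g').hom)⟩
    choose n g hn using hrel
    obtain ⟨N, γ, ψ, hψ⟩ := ZClos93.exists_common i n g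
    have hker : LinearMap.ker p ≤ LinearMap.ker ((D.map γ).hom.comp q) := by
      rw [← hS, Submodule.span_le]
      intro z hz
      change (D.map γ).hom (q z) = 0
      rw [← hψ ⟨z, hz⟩, Functor.map_comp, ModuleCat.hom_comp, LinearMap.comp_apply, hn ⟨z, hz⟩,
        map_zero]
    refine ⟨N, ModuleCat.ofHom (((LinearMap.ker p).liftQ _ hker).comp
      (p.quotKerEquivOfSurjective hp).symm.toLinearMap), ModuleCat.hom_ext (LinearMap.ext fun x => ?_)⟩
    obtain ⟨v, rfl⟩ := hp x
    have hv : (p.quotKerEquivOfSurjective hp).symm (p v) = Submodule.Quotient.mk v :=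
      (LinearEquiv.symm_apply_eq _).mpr rfl
    change φ.hom (p v) = (c.ι.app N).hom ((LinearMap.ker p).liftQ _ hker
      ((p.quotKerEquivOfSurjective hp).symm (p v)))
    rw [hv]
    change φ.hom (p v) = (c.ι.app N).hom ((D.map γ).hom (q v))
    rw [hw]
    exact (LinearMap.congr_fun hq v).symm
  · have hrel : ∀ t : Fin m, ∃ (n : J) (g : i ⟶ n),
        (D.map g).hom (a.hom (p (Pi.single t 1))) = (D.map g).hom (b.hom (p (Pi.single t 1))) := by
      intro t
      have h0 : (c.ι.app i).hom (a.hom (p (Pi.single t 1))) =
          (c.ι.app i).hom (b.hom (p (Pi.single t 1))) :=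
        congrArg (fun k => k.hom (p (Pi.single t 1))) hab
      exact (Types.FilteredColimit.isColimit_eq_iff' hc' _ _).mp h0
    choose n g hn using hrel
    obtain ⟨N, γ, ψ, hψ⟩ := ZClos93.exists_common i n g
    refine ⟨N, γ, ?_⟩
    refine ModuleCat.hom_ext ((LinearMap.cancel_right hp).mp
      (LinearMap.pi_ext' fun t => LinearMap.ext_ring ?_))
    change (D.map γ).hom (a.hom (p (Pi.single t 1))) = (D.map γ).hom (b.hom (p (Pi.single t 1)))
    rw [← hψ t, Functor.map_comp, ModuleCat.hom_comp, LinearMap.comp_apply, LinearMap.comp_apply,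
      hn t]

variable (A)

/-- Finitely presented modules generate under filtered colimits. -/
theorem gen_fpMod : Gen (fpMod A) := by
  refine ⟨fun M hM => haveI : Module.FinitePresentation A M := hM
    isFinitelyPresentable_of_finitePresentation M, fun X => ?_⟩
  let Q : ObjectProperty (ModuleCat.{u} A) := ObjectProperty.ofObj fun _ : PUnit.{u + 1} => ModuleCat.of A A
  have hQ : Q.IsStrongGenerator := by
    rw [ObjectProperty.isStrongGenerator_iff]
    refine ⟨fun M N f g h => ModuleCat.hom_ext (LinearMap.ext fun x => ?_), fun M N i _ h => ?_⟩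
    · have := h _ ⟨PUnit.unit⟩ (ModuleCat.ofHom (LinearMap.toSpanSingleton A M x))
      simpa using congr($(this).hom (1 : A))
    · have : Epi i := (ModuleCat.epi_iff_surjective _).mpr fun y => by
        obtain ⟨g, hg⟩ := h _ ⟨PUnit.unit⟩ (ModuleCat.ofHom (LinearMap.toSpanSingleton A N y))
        exact ⟨g.hom (1 : A), by simpa using congr($(hg).hom (1 : A))⟩
      exact isIso_of_mono_of_epi i
  have hQ' : Q ≤ isCardinalPresentable (ModuleCat.{u} A) Cardinal.aleph0 := by
    rintro _ ⟨_⟩
    exact isFinitelyPresentable_of_finitePresentation (ModuleCat.of A A)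
  have : IsCardinalLocallyPresentable (ModuleCat.{u} A) Cardinal.aleph0.{u} :=
    (IsCardinalLocallyPresentable.iff_exists_isStrongGenerator _ _).mpr
      ⟨Q, inferInstance, hQ, hQ'⟩
  obtain ⟨J, _, _, ⟨p⟩⟩ := (isCardinalFilteredGenerator_isCardinalPresentable
    (ModuleCat.{u} A) Cardinal.aleph0.{u}).exists_colimitsOfShape X
  refine ⟨J, inferInstance, isFiltered_of_isCardinalFiltered J Cardinal.aleph0, ⟨p.ofLE ?_⟩⟩
  intro M hM
  have : IsFinitelyPresentable.{u} M := hM
  exact QCFilt72.finitePresentation_of_factor (R := CommRingCat.of A) M fun J _ _ D c hc φ =>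
    IsFinitelyPresentable.exists_hom_of_isColimit hc φ

end Groth.Agent.IndExt72
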